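import Groth.Agent.ProjLcm70.Generated
import Groth.Agent.ProjMorph.VeryAmple
import Groth.Agent.ProjMorph.Base
import Mathlib.AlgebraicGeometry.ProjectiveSpectrum.Proper
import Mathlib.AlgebraicGeometry.Morphisms.Proper
import Mathlib.RingTheory.FiniteType

/-!
# Embedding `Proj` into projective space by forms of degree `n`
-/

set_option autoImplicit false
set_option linter.style.haveILetI false

universe u

open CategoryTheory CategoryTheory.Limits AlgebraicGeometry Opposite TopologicalSpace HomogeneousLocalization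

noncomputable section

namespace Groth.Agent.ProjLcm70

open Twist Groth.Agent.ProjTwist Groth.Agent.QCoh Groth.Agent.Props.GenLocus Groth.Agent.Props.ProjFrame
open Groth.Agent.AmpleLib Groth.Agent.ProjMorph

variable {R A : Type u} [CommRing R] [CommRing A] [Algebra R A] {𝒜 : ℕ → Submodule R A}
  [GradedAlgebra 𝒜]

theorem awayToSection_mk {g : A} {n : ℕ} (hg : g ∈ 𝒜 n) (m : ℕ) {a : A} (ha : a ∈ 𝒜 (m • n))
    (hgm : g ^ m ∈ 𝒜 (m • n)) (hU : Proj.basicOpen 𝒜 g ≤ Proj.basicOpen 𝒜 (g ^ m)) :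
    Proj.awayToSection 𝒜 g (Away.mk 𝒜 hg m a ha) = coeff ha hgm _ hU := by
  refine Props.ProjFrame.valAt_ext fun x => ?_
  rw [valAt_coeff]
  refine (ProjectiveSpectrum.Proj.awayToSection_apply 𝒜 g _ x).trans ?_
  rw [Away.val_mk, Localization.mk_eq_mk', IsLocalization.map_mk', ← Localization.mk_eq_mk']
  rfl

theorem res_globalOf {n : ℕ} {g b : A} (hg : g ∈ 𝒜 n) (hb : b ∈ 𝒜 n) :
    res (twist 𝒜 (n : ℤ)) (le_top : Proj.basicOpen 𝒜 g ≤ ⊤)
        (show ProjUP.Γm (twist 𝒜 (n : ℤ)) from globalOf 𝒜 (⟨b, hb⟩ : 𝒜 n)) =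
      coeff hb hg _ le_rfl • frac hg (Proj.basicOpen 𝒜 g) := by
  refine sectN_ext fun x => ?_
  refine Eq.trans ?_ (smul_coe _ _ x).symm
  change Localization.mk b ⟨1, _⟩ = valAt (coeff hb hg _ le_rfl) x * Localization.mk g ⟨1, _⟩
  rw [valAt_coeff, mk_mul_mk, Localization.mk_eq_mk_iff, Localization.r_iff_exists]
  exact ⟨1, by simp [mul_comm]⟩

/-- The ratios of forms of degree `n` by `g`, in `A_g`. -/
def ratios (n : ℕ) {κ : Type} (b : κ → A) (g : A) : Subalgebra R (Localization.Away g) :=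
  Algebra.adjoin R (Set.range fun l =>
    algebraMap A (Localization.Away g) (b l) * IsLocalization.Away.invSelf g)

theorem mk_eq_mul_invSelf_pow {g : A} (a : A) (m : ℕ) :
    (Localization.mk a ⟨g ^ m, m, rfl⟩ : Localization.Away g) =
      algebraMap A (Localization.Away g) a * IsLocalization.Away.invSelf g ^ m := by
  rw [Localization.mk_eq_mk', IsLocalization.mk'_eq_iff_eq_mul, mul_assoc, map_pow, ← mul_pow,
    mul_comm (IsLocalization.Away.invSelf g), IsLocalization.Away.mul_invSelf, one_pow, mul_one]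

/-- Constants on a chart of `Proj`. -/
theorem str_appLE_basicOpen {g : A} {n : ℕ} (hg : g ∈ 𝒜 n) (hn : 0 < n) (r : R) :
    (str 𝒜).appLE ⊤ (Proj.basicOpen 𝒜 g) le_top ((Scheme.ΓSpecIso (CommRingCat.of R)).inv r) =
      Proj.awayToSection 𝒜 g (fromZeroRingHom 𝒜 _ (algebraMap R (𝒜 0) r)) := by
  have key : (Scheme.ΓSpecIso (CommRingCat.of R)).inv ≫
      (str 𝒜).appLE ⊤ (Proj.basicOpen 𝒜 g) le_top =
      CommRingCat.ofHom (((Proj.awayToSection 𝒜 g).hom.comp (fromZeroRingHom 𝒜 _)).comp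
        (algebraMap R (𝒜 0))) := by
    refine toSpecΓ_SpecMap_injective ?_
    have h1 : (Proj.basicOpen 𝒜 g).ι =
        awayHom 𝒜 (Proj.basicOpen 𝒜 g) hg hn (Proj.awayToSection 𝒜 g).hom := by
      simp only [awayHom, CommRingCat.ofHom_hom]
      rw [← Category.assoc, show (Proj.basicOpen 𝒜 g).toSpecΓ ≫ Spec.map (Proj.awayToSection 𝒜 g) =
        (Proj.basicOpenIsoSpec 𝒜 g hg hn).hom from rfl, Proj.awayι, Iso.hom_inv_id_assoc]
    refine Eq.trans ?_ (awayHom_str hg hn (Proj.awayToSection 𝒜 g).hom)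
    refine Eq.trans ?_ (congrArg (· ≫ str 𝒜) h1)
    have e : (Scheme.ΓSpecIso (CommRingCat.of R)).inv ≫ (str 𝒜).appLE ⊤ (Proj.basicOpen 𝒜 g) le_top =
        CommRingCat.ofHom (ProjUP.toGlobal (str 𝒜)) ≫
          (Proj 𝒜).presheaf.map (homOfLE (le_top : Proj.basicOpen 𝒜 g ≤ ⊤)).op := rfl
    rw [e, Spec.map_comp, Scheme.Opens.toSpecΓ_SpecMap_presheaf_map_top_assoc,
      toSpecΓ_toGlobal]
  have := congrArg (fun φ => φ.hom r) key
  simpa only [CommRingCat.hom_comp, CommRingCat.hom_ofHom, RingHom.comp_apply] using this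

theorem exists_embedding {N n : ℕ} (hn : 0 < n) (b : Fin (N + 1) → A) (hb : ∀ k, b k ∈ 𝒜 n)
    (J : Set (Fin (N + 1))) (hcov : ∀ x : ProjectiveSpectrum 𝒜, ∃ k ∈ J, b k ∉ x.asHomogeneousIdeal)
    (hratio : ∀ k ∈ J, ∀ (m : ℕ) (a : A), a ∈ 𝒜 (m • n) →
      algebraMap A (Localization.Away (b k)) a * IsLocalization.Away.invSelf (b k) ^ m ∈
        ratios (R := R) n b (b k))
    (hproper : IsProper (str 𝒜)) :
    ∃ (N : ℕ) (i : Proj 𝒜 ⟶ CohB1.ProjSpaceOver N (Spec (CommRingCat.of R))), IsClosedImmersion i ∧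
      i ≫ pullback.snd (CohB1.ProjSpace.toSpec N (ULift.{u} ℤ)) (specULiftZIsTerminal.from (Spec (CommRingCat.of R))) =
        Proj.toSpecZero 𝒜 ≫ Spec.map (CommRingCat.ofHom (algebraMap R (𝒜 0))) ∧
      Nonempty (twist 𝒜 (n : ℤ) ≅
        (Scheme.Modules.pullback i).obj (Twist.twistOver N (Spec (CommRingCat.of R)) 1)) := by
  let L := twist 𝒜 (n : ℤ)
  let σ : Fin (N + 1) → ProjUP.Γm L := fun k => globalOf 𝒜 (⟨b k, hb k⟩ : 𝒜 n)
  have hL : PicF.IsInvertible L := isInvertible_of_exists_isGen fun x =>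
    let ⟨k, _, hk⟩ := hcov x
    ⟨_, _, hk, isGen_frac (hb k)⟩
  have hres : ∀ k l, res L (le_top : Proj.basicOpen 𝒜 (b k) ≤ ⊤) (σ l) =
      coeff (hb l) (hb k) _ le_rfl • frac (hb k) (Proj.basicOpen 𝒜 (b k)) :=
    fun k l => res_globalOf (hb k) (hb l)
  have hself : ∀ k, res L (le_top : Proj.basicOpen 𝒜 (b k) ≤ ⊤) (σ k) =
      frac (hb k) (Proj.basicOpen 𝒜 (b k)) := fun k => rfl
  have hloc : ∀ k, locus (O := ⊤) (σ k) = Proj.basicOpen 𝒜 (b k) := by
    intro k
    refine le_antisymm (fun x hx => ?_) (le_locus le_top ?_)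
    · obtain ⟨j, -, hj⟩ := hcov x
      have h1 := locus_inf le_top (isGen_frac (hb j)) (σ k) (hres j k)
      rw [basicOpen_coeff] at h1
      exact (h1.le ⟨hx, hj⟩).2
    · rw [hself]; exact isGen_frac (hb k)
  have hcov' : ⊤ ≤ ⨆ k ∈ J, locus (O := ⊤) (σ k) := fun x _ =>
    let ⟨k, hk, hx⟩ := hcov x
    Opens.mem_iSup.mpr ⟨k, Opens.mem_iSup.mpr ⟨hk, (hloc k).ge hx⟩⟩
  have hgen : ProjUP.GeneratedBy L σ := by
    intro x
    obtain ⟨k, -, hk⟩ := hcov x
    have hbij := ((isGen_iff_isFrame _).mp (isGen_frac (hb k))).stalkComb_bijective x hk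
    refine top_le_iff.mp fun z _ => ?_
    obtain ⟨a, rfl⟩ := hbij.2 z
    simp only [LFFrame.stalkComb, Fintype.linearCombination_apply, Fin.sum_univ_one]
    refine Submodule.smul_mem _ _ (Submodule.subset_span ⟨k, ?_⟩)
    rw [← hself k]
    exact (L.presheaf.germ_res_apply _ x hk (σ k)).symm
  obtain ⟨i, hiq, hpre, hcoef, ⟨e⟩⟩ := exists_toProjSpaceOver (str 𝒜) hL σ hgen
  refine ⟨N, i, ?_, hiq, ⟨e⟩⟩
  haveI : IsAffineHom (specULiftZIsTerminal.from (Spec (CommRingCat.of R))) :=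
    isAffineHom_of_isAffine _
  haveI : IsImmersion i := by
    refine isImmersion_of_pieces i _ (CohB1.ProjSpaceOver.toBase N _)
      (MorphismProperty.pullback_fst _ _ inferInstance) (fun k => MvPolynomial.X k)
      (fun k => MvPolynomial.isHomogeneous_X (ULift.{u} ℤ) k) σ J hcov'
      (fun k _ => (hloc k).symm ▸ Proj.isAffineOpen_basicOpen 𝒜 (b k) (hb k) hn) hpre hcoef ?_
    intro k hk
    suffices H : ∀ (U : (Proj 𝒜).Opens), U = Proj.basicOpen 𝒜 (b k) →
        ∀ c : Fin (N + 1) → Γ(Proj 𝒜, U),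
        (∀ l, res L (le_top : U ≤ ⊤) (σ l) = c l • res L le_top (σ k)) →
        Subring.closure (Set.range ((i ≫ CohB1.ProjSpaceOver.toBase N _).appLE ⊤ U le_top) ∪ Set.range c) = ⊤ by
      exact H _ (hloc k)
    rintro U rfl c hc
    rw [hiq]
    have hc' : ∀ l, c l = coeff (hb l) (hb k) _ le_rfl := fun l =>
      (isGen_frac (hb k)).injective le_rfl (by
        rw [res_self, ← hres k l, hc l, hself])
    set S := Subring.closure (Set.range ((str 𝒜).appLE ⊤ (Proj.basicOpen 𝒜 (b k)) le_top) ∪ Set.range c)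
    let T : Subring (Localization.Away (b k)) :=
      (S.comap (Proj.awayToSection 𝒜 (b k)).hom).map
        (algebraMap (Away 𝒜 (b k)) (Localization.Away (b k)))
    have hT : ∀ z ∈ ratios (R := R) n b (b k), z ∈ T := by
      intro z hz
      induction hz using Algebra.adjoin_induction with
      | mem z hz =>
        obtain ⟨l, rfl⟩ := hz
        refine ⟨Away.mk 𝒜 (hb k) 1 (b l) (by rw [one_smul]; exact hb l), ?_, ?_⟩
        · change Proj.awayToSection 𝒜 (b k) _ ∈ S
          rw [awayToSection_mk (hb k) 1 _ (by rw [pow_one, one_smul]; exact hb k)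
            (by rw [pow_one])]
          refine Subring.subset_closure (Or.inr ⟨l, ?_⟩)
          rw [hc']
          refine Props.ProjFrame.valAt_ext fun x => ?_
          rw [valAt_coeff, valAt_coeff]
          exact congrArg _ (Subtype.ext (pow_one _).symm)
        · rw [HomogeneousLocalization.algebraMap_apply, Away.val_mk, mk_eq_mul_invSelf_pow, pow_one]
      | algebraMap r =>
        refine ⟨fromZeroRingHom 𝒜 _ (algebraMap R (𝒜 0) r), ?_, ?_⟩
        · refine Subring.subset_closure (Or.inl ⟨(Scheme.ΓSpecIso (CommRingCat.of R)).inv r, ?_⟩)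
          exact str_appLE_basicOpen (hb k) hn r
        · rw [HomogeneousLocalization.algebraMap_apply, fromZeroRingHom]
          simp only [RingHom.coe_mk, MonoidHom.coe_mk, OneHom.coe_mk, HomogeneousLocalization.val_mk]
          rw [IsScalarTower.algebraMap_apply R A (Localization.Away (b k)),
            ← Localization.mk_one_eq_algebraMap]
          rfl
      | add x y _ _ hx hy => exact add_mem hx hy
      | mul x y _ _ hx hy => exact mul_mem hx hy
    refine top_le_iff.mp fun w _ => ?_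
    obtain ⟨z, rfl⟩ := (Proj.basicOpenIsoAway 𝒜 (b k) (hb k) hn).commRingCatIsoToRingEquiv.surjective w
    obtain ⟨m, a, ha, rfl⟩ := Away.mk_surjective 𝒜 (hb k) z
    obtain ⟨z', hz', hzz⟩ := hT _ (hratio k hk m a ha)
    have : z' = Away.mk 𝒜 (hb k) m a ha := by
      refine HomogeneousLocalization.val_injective _ ?_
      rw [Away.val_mk, mk_eq_mul_invSelf_pow, ← hzz, HomogeneousLocalization.algebraMap_apply]
    subst this
    exact hz'
  haveI : IsProper (i ≫ CohB1.ProjSpaceOver.toBase N _) := hiq ▸ hproper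
  haveI : IsSeparated (CohB1.ProjSpace.toSpec N (ULift.{u} ℤ)) := by
    unfold CohB1.ProjSpace.toSpec
    have h1 : IsSeparated (Proj.toSpecZero (CohB1.polyGrading N (ULift.{u} ℤ))) := inferInstance
    exact MorphismProperty.comp_mem _ _ _ h1 inferInstance
  haveI : IsSeparated (CohB1.ProjSpaceOver.toBase N (Spec (CommRingCat.of R))) :=
    MorphismProperty.pullback_snd _ _ inferInstance
  haveI := IsProper.of_comp i (CohB1.ProjSpaceOver.toBase N (Spec (CommRingCat.of R)))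
  exact IsClosedImmersion.of_isPreimmersion i i.isClosedMap.isClosed_range

theorem isProper_str {s : ℕ} {f : Fin s → A} {deg : Fin s → ℕ} (hf : ∀ i, f i ∈ 𝒜 (deg i))
    (hgen : Algebra.adjoin R (Set.range f) = ⊤) (hdeg : ∀ i, 0 < deg i) : IsProper (str 𝒜) := by
  have hsurj : Function.Surjective (algebraMap R (𝒜 0)) := fun z => by
    obtain ⟨r, hr⟩ := Submodule.mem_one.mp ((graded_zero hf hgen hdeg).le z.2)
    exact ⟨r, Subtype.ext hr⟩
  classical
  haveI : IsScalarTower R (𝒜 0) A := ⟨fun r x y => by simp [Algebra.smul_def, mul_assoc]⟩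
  haveI : Algebra.FiniteType R A := ⟨⟨Finset.univ.image f, by simpa using hgen⟩⟩
  haveI : Algebra.FiniteType (𝒜 0) A := Algebra.FiniteType.of_restrictScalars_finiteType R (𝒜 0) A
  haveI : IsClosedImmersion (Spec.map (CommRingCat.ofHom (algebraMap R (𝒜 0)))) :=
    IsClosedImmersion.spec_of_surjective _ hsurj
  exact MorphismProperty.comp_mem @IsProper (Proj.toSpecZero 𝒜)
    (Spec.map (CommRingCat.ofHom (algebraMap R (𝒜 0)))) inferInstance inferInstance

theorem exists_fin_param {s : ℕ} (f : Fin s → A) (deg : Fin s → ℕ) (hdeg : ∀ i, 0 < deg i) (n : ℕ)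
    (hf : ∀ i, f i ∈ 𝒜 (deg i)) :
    ∃ (N : ℕ) (b : Fin (N + 1) → A), (∀ k, b k ∈ 𝒜 n) ∧ monoSet f deg n ⊆ Set.range b := by
  have hfin : (monoSet f deg n).Finite := by
    refine (Set.finite_range fun e : Fin s → Fin (n + 1) => ∏ i, f i ^ (e i : ℕ)).subset ?_
    rintro _ ⟨e, he, rfl⟩
    refine ⟨fun i => ⟨e i, Nat.lt_succ_of_le ((Nat.le_mul_of_pos_right _ (hdeg i)).trans ?_)⟩, rfl⟩
    rw [← he]
    exact Finset.single_le_sum (f := fun i => e i * deg i) (fun _ _ => Nat.zero_le _) (Finset.mem_univ i)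
  obtain ⟨m, g, -, hg⟩ := hfin.fin_param
  refine ⟨m, Fin.snoc g 0, fun k => ?_, fun a ha => ?_⟩
  · induction k using Fin.lastCases with
    | last => simp
    | cast j =>
      rw [Fin.snoc_castSucc]
      obtain ⟨e, he, hge⟩ := hg.le ⟨j, rfl⟩
      exact hge ▸ he ▸ prod_pow_mem hf e
  · obtain ⟨j, rfl⟩ := hg.ge ha
    exact ⟨j.castSucc, by simp⟩

theorem mul_invSelf_mem_ratios {n N : ℕ} (b : Fin (N + 1) → A) (g : A) {c : A}
    (hc : c ∈ Submodule.span R (Set.range b)) :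
    algebraMap A (Localization.Away g) c * IsLocalization.Away.invSelf g ∈ ratios (R := R) n b g := by
  induction hc using Submodule.span_induction with
  | mem c hc => obtain ⟨l, rfl⟩ := hc; exact Algebra.subset_adjoin ⟨l, rfl⟩
  | zero => simp
  | add x y _ _ hx hy => rw [map_add, add_mul]; exact add_mem hx hy
  | smul r x _ hx =>
    rw [← IsScalarTower.algebraMap_smul A r x, smul_eq_mul, map_mul, mul_assoc,
      ← IsScalarTower.algebraMap_apply R A (Localization.Away g)]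
    exact mul_mem (Subalgebra.algebraMap_mem _ r) hx

end Groth.Agent.ProjLcm70

end

section cases

open Groth.Agent.ProjLcm70

namespace Groth.Agent.ProjLcm70

variable {R A : Type u} [CommRing R] [CommRing A] [Algebra R A] {𝒜 : ℕ → Submodule R A}
  [GradedAlgebra 𝒜]

theorem exists_embedding_mul_lcm {s : ℕ} {f : Fin s → A} {deg : Fin s → ℕ} (hdeg : ∀ i, 0 < deg i)
    (hf : ∀ i, f i ∈ 𝒜 (deg i)) (hgen : Algebra.adjoin R (Set.range f) = ⊤) (a : ℕ) (ha : 0 < a)
    (has : s - 1 ≤ a) :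
    ∃ (N : ℕ) (i : Proj 𝒜 ⟶ CohB1.ProjSpaceOver N (Spec (CommRingCat.of R))), IsClosedImmersion i ∧
      i ≫ pullback.snd (CohB1.ProjSpace.toSpec N (ULift.{u} ℤ)) (specULiftZIsTerminal.from (Spec (CommRingCat.of R))) =
        Proj.toSpecZero 𝒜 ≫ Spec.map (CommRingCat.ofHom (algebraMap R (𝒜 0))) ∧
      Nonempty (Twist.twist 𝒜 ((a * Finset.univ.lcm deg : ℕ) : ℤ) ≅
        (Scheme.Modules.pullback i).obj (Twist.twistOver N (Spec (CommRingCat.of R)) 1)) := by
  obtain ⟨N, b, hb, hbm⟩ := exists_fin_param (𝒜 := 𝒜) f deg hdeg (a * Finset.univ.lcm deg) hf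
  have hspan : 𝒜 (a * Finset.univ.lcm deg) ≤ Submodule.span R (Set.range b) :=
    (le_span_monoSet hf hgen _).trans (Submodule.span_mono hbm)
  refine exists_embedding (Nat.mul_pos ha (lcm_pos hdeg)) b hb Set.univ (fun x => ?_) ?_
    (isProper_str hf hgen hdeg)
  · obtain ⟨g, hg, hgx⟩ := exists_mul_lcm_not_mem hf hgen hdeg a x
    by_contra hc
    push Not at hc
    exact hgx ((Submodule.span_le (p := (x.asHomogeneousIdeal.toIdeal).restrictScalars R)).mpr
      (by rintro _ ⟨k, rfl⟩; exact hc k trivial) (hspan hg))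
  intro k _ m
  induction m with
  | zero =>
    intro y hy
    rw [zero_smul, graded_zero hf hgen hdeg, Submodule.mem_one] at hy
    obtain ⟨r, rfl⟩ := hy
    rw [pow_zero, mul_one, ← IsScalarTower.algebraMap_apply]
    exact Subalgebra.algebraMap_mem _ r
  | succ m ih =>
    intro y hy
    rw [smul_eq_mul, graded_mul_eq_pow hf hgen hdeg a has, pow_succ,
      ← graded_mul_eq_pow hf hgen hdeg a has] at hy
    induction hy using Submodule.mul_induction_on' with
    | mem_mul_mem p hp q hq =>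
      rw [map_mul, pow_succ, mul_mul_mul_comm]
      exact mul_mem (ih p (by rwa [smul_eq_mul])) (mul_invSelf_mem_ratios b (b k) (hspan hq))
    | add p _ q _ hp hq => rw [map_add, add_mul]; exact add_mem hp hq

theorem exists_finite_hom_generators (d : ℕ)
    (hgen : Algebra.adjoin R (⋃ i ∈ Finset.Icc 1 d, (𝒜 i : Set A)) = ⊤) [Algebra.FiniteType R A] :
    ∃ (s : ℕ) (f : Fin s → A) (deg : Fin s → ℕ), (∀ i, 0 < deg i) ∧ (∀ i, deg i ≤ d) ∧
      (∀ i, f i ∈ 𝒜 (deg i)) ∧ Algebra.adjoin R (Set.range f) = ⊤ := by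
  classical
  obtain ⟨G, hG⟩ := (inferInstance : Algebra.FiniteType R A).out
  set U : Set A := ⋃ i ∈ Finset.Icc 1 d, (𝒜 i : Set A)
  have key : ∀ x : A, ∃ T : Finset A, ↑T ⊆ U ∧ x ∈ Algebra.adjoin R (T : Set A) := fun x => by
    have hx : x ∈ Algebra.adjoin R U := hgen.ge Algebra.mem_top
    induction hx using Algebra.adjoin_induction with
    | mem y hy => exact ⟨{y}, by simpa using hy, Algebra.subset_adjoin (by simp)⟩
    | algebraMap r => exact ⟨∅, by simp, Subalgebra.algebraMap_mem _ r⟩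
    | add y z _ _ hy hz =>
      obtain ⟨T, hT, hy⟩ := hy
      obtain ⟨T', hT', hz⟩ := hz
      exact ⟨T ∪ T', by simp [hT, hT'], add_mem (Algebra.adjoin_mono (by simp) hy)
        (Algebra.adjoin_mono (by simp) hz)⟩
    | mul y z _ _ hy hz =>
      obtain ⟨T, hT, hy⟩ := hy
      obtain ⟨T', hT', hz⟩ := hz
      exact ⟨T ∪ T', by simp [hT, hT'], mul_mem (Algebra.adjoin_mono (by simp) hy)
        (Algebra.adjoin_mono (by simp) hz)⟩
  choose T hT hxT using key
  let S := G.biUnion T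
  have hS : ∀ y ∈ S, ∃ i, 0 < i ∧ i ≤ d ∧ y ∈ 𝒜 i := fun y hy => by
    obtain ⟨g, -, hy⟩ := Finset.mem_biUnion.mp hy
    obtain ⟨i, hi, hyi⟩ := Set.mem_iUnion₂.mp (hT g hy)
    exact ⟨i, (Finset.mem_Icc.mp hi).1, (Finset.mem_Icc.mp hi).2, hyi⟩
  choose dg h1 h2 h3 using hS
  refine ⟨S.card, fun i => (S.equivFin.symm i).1,
    fun i => dg _ (S.equivFin.symm i).2, fun i => h1 _ _, fun i => h2 _ _, fun i => h3 _ _,
    top_le_iff.mp (hG.ge.trans (Algebra.adjoin_le fun g hg => ?_))⟩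
  refine (Algebra.adjoin_mono ?_) (hxT g)
  intro y hy
  exact ⟨S.equivFin ⟨y, Finset.mem_biUnion.mpr ⟨g, hg, hy⟩⟩, by simp⟩

theorem exists_embedding_coveredInDegreeOne (d : ℕ)
    (hgen : Algebra.adjoin R (⋃ i ∈ Finset.Icc 1 d, (𝒜 i : Set A)) = ⊤)
    (hcov : (⨆ g : 𝒜 1, Proj.basicOpen 𝒜 (g : A)) = ⊤) [Algebra.FiniteType R A] (n : ℕ) (hn : d ≤ n)
    (hn1 : 0 < n) :
    ∃ (N : ℕ) (i : Proj 𝒜 ⟶ CohB1.ProjSpaceOver N (Spec (CommRingCat.of R))), IsClosedImmersion i ∧
      i ≫ pullback.snd (CohB1.ProjSpace.toSpec N (ULift.{u} ℤ)) (specULiftZIsTerminal.from (Spec (CommRingCat.of R))) =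
        Proj.toSpecZero 𝒜 ≫ Spec.map (CommRingCat.ofHom (algebraMap R (𝒜 0))) ∧
      Nonempty (Twist.twist 𝒜 (n : ℤ) ≅
        (Scheme.Modules.pullback i).obj (Twist.twistOver N (Spec (CommRingCat.of R)) 1)) := by
  obtain ⟨s, f, deg, hdeg, hdle, hf, hgen'⟩ := exists_finite_hom_generators d hgen
  obtain ⟨N, b, hb, hbm⟩ := exists_fin_param (𝒜 := 𝒜) f deg hdeg n hf
  have hspan : 𝒜 n ≤ Submodule.span R (Set.range b) :=
    (le_span_monoSet hf hgen' _).trans (Submodule.span_mono hbm)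
  refine exists_embedding hn1 b hb {k | ∃ x ∈ 𝒜 1, b k = x ^ n} (fun p => ?_) ?_
    (isProper_str hf hgen' hdeg)
  · obtain ⟨g, hg⟩ := Opens.mem_iSup.mp (hcov.ge (trivial : (show Proj 𝒜 from p) ∈ (⊤ : (Proj 𝒜).Opens)))
    obtain ⟨y, hy, hyp⟩ : ∃ y ∈ monoSet f deg 1, y ∉ p.asHomogeneousIdeal := by
      by_contra hc
      push Not at hc
      exact hg ((Submodule.span_le (p := (p.asHomogeneousIdeal.toIdeal).restrictScalars R)).mpr
        hc (le_span_monoSet hf hgen' 1 g.2))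
    obtain ⟨e, he, rfl⟩ := hy
    have hmem : (∏ i, f i ^ e i) ^ n ∈ monoSet f deg n := by
      refine ⟨fun i => e i * n, ?_, ?_⟩
      · simp only [mul_right_comm (e _) n, ← Finset.sum_mul, he, one_mul]
      · simp [← Finset.prod_pow, pow_mul]
    obtain ⟨k, hk⟩ := hbm hmem
    exact ⟨k, ⟨_, he ▸ prod_pow_mem hf e, hk⟩, hk ▸ Groth.Agent.ProjTwist.not_mem_pow p hyp n⟩
  rintro k ⟨x, hx, hk⟩ m y hy
  set φ := algebraMap A (Localization.Away (b k))
  set w := IsLocalization.Away.invSelf (S := Localization.Away (b k)) (b k)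
  have hxw : φ x ^ n * w = 1 := by
    rw [← map_pow, ← hk]; exact IsLocalization.Away.mul_invSelf _
  have key : ∀ j z, z ∈ 𝒜 j → φ z * φ x ^ (j * (n - 1)) * w ^ j ∈ ratios (R := R) n b (b k) := by
    intro j z hz
    refine hom_induction f deg hf hgen'
      (fun j z => φ z * φ x ^ (j * (n - 1)) * w ^ j ∈ ratios (R := R) n b (b k))
      (fun j => by simp) (fun j u v hu hv => by rw [map_add, add_mul, add_mul]; exact add_mem hu hv)
      (fun j r u hu => by
        rw [Algebra.smul_def, map_mul, ← IsScalarTower.algebraMap_apply, mul_assoc, mul_assoc, ← mul_assoc (φ u)]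
        exact mul_mem (Subalgebra.algebraMap_mem _ r) hu)
      (by simp) (fun i => ?_)
      (fun i j u v _ _ hu hv => by
        have := mul_mem hu hv
        convert this using 1
        rw [map_mul, add_mul, pow_add, pow_add]
        ring) j z hz
    obtain ⟨q, hq⟩ := Nat.exists_eq_add_of_lt (hdeg i)
    obtain ⟨r, hr⟩ := Nat.exists_eq_add_of_le ((hdle i).trans hn)
    have hmem : f i * x ^ r ∈ 𝒜 n := by
      have := SetLike.mul_mem_graded (hf i) (SetLike.pow_mem_graded r hx)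
      rwa [smul_eq_mul, mul_one, ← hr] at this
    have h := mul_invSelf_mem_ratios (n := n) b (b k) (hspan hmem)
    have e1 : deg i * (n - 1) = r + n * q := by
      rw [Nat.zero_add] at hq
      obtain ⟨n', rfl⟩ := Nat.exists_eq_add_of_lt hn1
      rw [Nat.zero_add] at hr ⊢
      rw [Nat.add_sub_cancel, hq] at *
      nlinarith
    convert h using 1
    rw [map_mul, map_pow, e1, hq, Nat.zero_add, pow_add, pow_mul, pow_succ]
    calc φ (f i) * (φ x ^ r * (φ x ^ n) ^ q) * (w ^ q * w)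
        = φ (f i) * φ x ^ r * w * ((φ x ^ n * w) ^ q) := by rw [mul_pow]; ring
      _ = φ (f i) * φ x ^ r * w := by rw [hxw, one_pow, mul_one]
  have h := key (m • n) y hy
  convert h using 1
  rw [smul_eq_mul]
  have e2 : φ x ^ (m * n * (n - 1)) * w ^ (m * n) = w ^ m := by
    obtain ⟨n', rfl⟩ := Nat.exists_eq_add_of_lt hn1
    rw [Nat.zero_add, Nat.add_sub_cancel]
    calc φ x ^ (m * (n' + 1) * n') * w ^ (m * (n' + 1))
        = w ^ m * ((φ x ^ (0 + n' + 1) * w) ^ (m * n')) := by ring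
      _ = w ^ m := by rw [hxw, one_pow, mul_one]
  rw [mul_assoc, e2]

end Groth.Agent.ProjLcm70

end cases
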