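import Groth.Agent.ProjLcm70.Graded
import Groth.Agent.Props.ProjFrame
import Groth.Agent.Props.AmpleTwist
import Groth.Prelude.Def_ProjUP

/-!
# Global generation of the twisting sheaves
-/

set_option autoImplicit false

universe u

open CategoryTheory Limits AlgebraicGeometry Opposite TopologicalSpace

noncomputable section

namespace Groth.Agent.ProjLcm70

open Twist Groth.Agent.ProjTwist Groth.Agent.QCoh Groth.Agent.Props.GenLocus Groth.Agent.Props.ProjFrame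

variable {R A : Type u} [CommRing R] [CommRing A] [Algebra R A] {𝒜 : ℕ → Submodule R A}
  [GradedAlgebra 𝒜]

/-- A fraction of degree `n` as a section over `D₊(t)`. -/
def fracSec (n : ℕ) {k : ℕ} {y t : A} (hy : y ∈ 𝒜 (n + k)) (ht : t ∈ 𝒜 k) :
    Γ(twist 𝒜 (n : ℤ), Proj.basicOpen 𝒜 t) :=
  (⟨fun x => ⟨Localization.mk y ⟨t, x.2⟩,
      Submodule.subset_span ⟨n + k, k, ⟨y, hy⟩, ⟨t, ht⟩, x.2, by push_cast; omega, rfl⟩⟩,
    fun x => ⟨_, x.2, 𝟙 _, n + k, k, ⟨y, hy⟩, ⟨t, ht⟩, fun z => z.2,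
      Or.inl (show ((n + k : ℕ) : ℤ) = (k : ℤ) + (n : ℤ) by push_cast; omega), fun _ => rfl⟩⟩ :
    sectN (𝒜 := 𝒜) (n : ℤ) (op (Proj.basicOpen 𝒜 t)))

theorem germ_fracSec_mem {n k : ℕ} {y t : A} (hy : y ∈ 𝒜 (n + k)) (ht : t ∈ 𝒜 k)
    (hy' : y ∈ 𝒜 n * 𝒜 k) (x : Proj 𝒜) (hx : x ∈ Proj.basicOpen 𝒜 t) :
    ((twist 𝒜 (n : ℤ)).presheaf.germ _ x hx).hom (fracSec n hy ht) ∈
      Submodule.span ((Proj 𝒜).presheaf.stalk x) (Set.range fun b : 𝒜 n =>
        ((twist 𝒜 (n : ℤ)).presheaf.germ ⊤ x trivial).hom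
          (show ProjUP.Γm (twist 𝒜 (n : ℤ)) from globalOf 𝒜 b)) := by
  induction hy' using Submodule.mul_induction_on' with
  | mem_mul_mem b hb c hc =>
    have e : fracSec n hy ht = coeff hc ht _ le_rfl •
        res (twist 𝒜 (n : ℤ)) (le_top : Proj.basicOpen 𝒜 t ≤ ⊤)
          (show ProjUP.Γm (twist 𝒜 (n : ℤ)) from globalOf 𝒜 (⟨b, hb⟩ : 𝒜 n)) := by
      refine sectN_ext fun z => ?_
      refine Eq.trans ?_ (smul_coe _ _ z).symm
      change Localization.mk (b * c) ⟨t, _⟩ =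
        valAt (coeff hc ht (Proj.basicOpen 𝒜 t) le_rfl) z * Localization.mk b ⟨1, _⟩
      rw [valAt_coeff, mk_mul_mk, mul_comm b c]
      exact congrArg _ (Subtype.ext (mul_one t).symm)
    rw [e]
    refine (congrArg (· ∈ _) (Groth.Agent.PullStalk.Sky.germM_smul _ _ x hx _ _)).mpr ?_
    refine Submodule.smul_mem _ _ (Submodule.subset_span ⟨⟨b, hb⟩, ?_⟩)
    exact ((twist 𝒜 (n : ℤ)).presheaf.germ_res_apply _ x hx _).symm
  | add y hy₀ z hz₀ ihy ihz =>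
    have h₁ := mul_le_graded n k hy₀
    have h₂ := mul_le_graded n k hz₀
    have e : fracSec n hy ht = fracSec n h₁ ht + fracSec n h₂ ht :=
      sectN_ext fun w => (Localization.add_mk_self y ⟨t, w.2⟩ z).symm
    rw [e, map_add]
    exact add_mem (ihy h₁) (ihz h₂)

/-- Global generation from a decomposition of every fraction. -/
theorem generatedBy_of_decomp (n : ℕ)
    (H : ∀ (x : ProjectiveSpectrum 𝒜) (j : ℕ) (a s : A), a ∈ 𝒜 (n + j) → s ∈ 𝒜 j →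
      s ∉ x.asHomogeneousIdeal → ∃ (k : ℕ) (t y : A), t ∈ 𝒜 k ∧ t ∉ x.asHomogeneousIdeal ∧
        y ∈ 𝒜 n * 𝒜 k ∧ a * t = s * y) :
    ProjUP.GeneratedBy (twist 𝒜 (n : ℤ))
      (fun b : 𝒜 n => (globalOf 𝒜 b : ProjUP.Γm (twist 𝒜 (n : ℤ)))) := by
  intro x
  refine top_le_iff.mp fun z _ => ?_
  obtain ⟨U, hxU, σ, rfl⟩ := (twist 𝒜 (n : ℤ)).presheaf.germ_exist z
  obtain ⟨V, hxV, iV, i, j, a, s, hs, hij, hw⟩ :=
    (show sectN (𝒜 := 𝒜) (n : ℤ) (op U) from σ).2 ⟨x, hxU⟩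
  have hij' : (i : ℤ) = j + n ∨ a.1 = 0 := hij
  have ha : a.1 ∈ 𝒜 (n + j) := by
    rcases hij' with h | h
    · rw [show n + j = i by omega]; exact a.2
    · rw [h]; exact zero_mem _
  obtain ⟨k, t, y, ht, hxt, hy, hat⟩ := H x j a s.1 ha s.2 (hs ⟨x, hxV⟩)
  have hy' := mul_le_graded n k hy
  have e : res (twist 𝒜 (n : ℤ)) (inf_le_left.trans (leOfHom iV) : V ⊓ Proj.basicOpen 𝒜 t ≤ U) σ =
      res (twist 𝒜 (n : ℤ)) (inf_le_right : V ⊓ Proj.basicOpen 𝒜 t ≤ _) (fracSec n hy' ht) := by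
    refine sectN_ext fun w => ?_
    refine (hw ⟨w.1, w.2.1⟩).trans ?_
    change Localization.mk (a : A) ⟨(s : A), _⟩ = Localization.mk y ⟨t, _⟩
    rw [Localization.mk_eq_mk_iff, Localization.r_iff_exists]
    exact ⟨1, by simp only [OneMemClass.coe_one, one_mul]; rw [mul_comm t, hat]⟩
  have hxW : x ∈ V ⊓ Proj.basicOpen 𝒜 t := ⟨hxV, hxt⟩
  have := congrArg (fun w => ((twist 𝒜 (n : ℤ)).presheaf.germ _ x hxW).hom w) e
  rw [((twist 𝒜 (n : ℤ)).presheaf.germ_res_apply _ x hxW σ :),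
    ((twist 𝒜 (n : ℤ)).presheaf.germ_res_apply _ x hxW _ :)] at this
  rw [this]
  exact germ_fracSec_mem hy' ht hy x hxt

/-- Global generation when the `D₊(b)`, `b` of degree `n`, cover. -/
theorem generatedBy_of_cover (n : ℕ)
    (hcov : ∀ x : ProjectiveSpectrum 𝒜, ∃ b ∈ 𝒜 n, b ∉ x.asHomogeneousIdeal) :
    ProjUP.GeneratedBy (twist 𝒜 (n : ℤ))
      (fun b : 𝒜 n => (globalOf 𝒜 b : ProjUP.Γm (twist 𝒜 (n : ℤ)))) := by
  refine generatedBy_of_decomp n fun x j a s ha hs hsx => ?_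
  obtain ⟨b, hb, hbx⟩ := hcov x
  refine ⟨n + j, b * s, b * a, SetLike.mul_mem_graded hb hs,
    fun h => (x.isPrime.mem_or_mem h).elim hbx hsx, Submodule.mul_mem_mul hb ha, ?_⟩
  ring

section lcm

variable {s : ℕ} {f : Fin s → A} {deg : Fin s → ℕ} (hf : ∀ i, f i ∈ 𝒜 (deg i))
  (hgen : Algebra.adjoin R (Set.range f) = ⊤) (hdeg : ∀ i, 0 < deg i)

include hf hgen in
/-- Some generator does not vanish at a point of `Proj`. -/
theorem exists_gen_not_mem (x : ProjectiveSpectrum 𝒜) : ∃ i, f i ∉ x.asHomogeneousIdeal := by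
  classical
  by_contra hc
  push Not at hc
  refine x.not_irrelevant_le fun a ha => ?_
  rw [← DirectSum.sum_support_decompose 𝒜 a]
  refine sum_mem fun m _ => ?_
  rcases m with _ | m
  · have h0 : (DirectSum.decompose 𝒜 a 0 : A) = 0 := ha
    rw [h0]; exact zero_mem _
  · exact hom_induction f deg hf hgen
      (fun m a => m ≠ 0 → a ∈ x.asHomogeneousIdeal)
      (fun _ _ => zero_mem _) (fun _ _ _ hx hy h => add_mem (hx h) (hy h))
      (fun _ r y hy h => by rw [Algebra.smul_def]; exact Ideal.mul_mem_left _ _ (hy h))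
      (fun h => absurd rfl h) (fun i _ => hc i)
      (fun i j a b _ _ hPa hPb h => by
        rcases Nat.eq_zero_or_pos i with hi | hi
        · exact Ideal.mul_mem_left _ _ (hPb (by omega))
        · exact Ideal.mul_mem_right _ _ (hPa (by omega)))
      _ _ (DirectSum.decompose 𝒜 a (m + 1)).2 (Nat.succ_ne_zero m)

include hf hgen hdeg in
theorem exists_mul_lcm_not_mem (a : ℕ) (x : ProjectiveSpectrum 𝒜) :
    ∃ g ∈ 𝒜 (a * Finset.univ.lcm deg), g ∉ x.asHomogeneousIdeal := by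
  obtain ⟨i, hi⟩ := exists_gen_not_mem hf hgen x
  refine ⟨(f i ^ (Finset.univ.lcm deg / deg i)) ^ a, ?_, not_mem_pow x (not_mem_pow x hi _) a⟩
  have := SetLike.pow_mem_graded a (SetLike.pow_mem_graded (Finset.univ.lcm deg / deg i) (hf i))
  rwa [smul_eq_mul, smul_eq_mul, Nat.div_mul_cancel (Finset.dvd_lcm (Finset.mem_univ i))] at this

include hf hgen hdeg in
theorem iSup_basicOpen_mul_lcm (a : ℕ) :
    (⨆ g : 𝒜 (a * Finset.univ.lcm deg), Proj.basicOpen 𝒜 (g : A)) = ⊤ :=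
  top_le_iff.mp fun x _ =>
    let ⟨g, hg, hx⟩ := exists_mul_lcm_not_mem hf hgen hdeg a x
    Opens.mem_iSup.mpr ⟨⟨g, hg⟩, hx⟩

include hf hgen hdeg in
theorem generatedBy_of_ge_bound (n : ℕ) (hn : (s - 1) * (Finset.univ.lcm deg - 1) ≤ n) :
    ProjUP.GeneratedBy (twist 𝒜 (n : ℤ))
      (fun b : 𝒜 n => (globalOf 𝒜 b : ProjUP.Γm (twist 𝒜 (n : ℤ)))) := by
  refine generatedBy_of_decomp n fun x j a t ha ht htx => ?_
  have hl := lcm_pos (s := s) hdeg
  obtain ⟨m, hm⟩ := Nat.exists_eq_add_of_lt hl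
  rw [Nat.zero_add] at hm
  have hmem : a * t ^ m ∈ 𝒜 (n + j * Finset.univ.lcm deg) := by
    have := SetLike.mul_mem_graded ha (SetLike.pow_mem_graded m ht)
    rwa [smul_eq_mul, Nat.add_assoc, show j + m * j = j * Finset.univ.lcm deg by rw [hm]; ring] at this
  have ht' : t ^ (m + 1) ∈ 𝒜 (j * Finset.univ.lcm deg) := by
    have := SetLike.pow_mem_graded (m + 1) ht
    rw [hm]
    rwa [smul_eq_mul, mul_comm] at this
  refine ⟨j * Finset.univ.lcm deg, t ^ (m + 1), a * t ^ m, ht', not_mem_pow x htx _, ?_, by ring⟩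
  rw [graded_add_mul_lcm hf hgen hdeg n hn j] at hmem
  exact mul_le_mul' le_rfl (pow_le_graded _ _) hmem

include hf hgen hdeg in
theorem compactSpace_proj : CompactSpace (Proj 𝒜) := by
  refine ⟨?_⟩
  have h : (Set.univ : Set (Proj 𝒜)) = ⋃ i, ((Proj.basicOpen 𝒜 (f i) : (Proj 𝒜).Opens) : Set (Proj 𝒜)) :=
    (Set.eq_univ_of_forall fun x => Set.mem_iUnion.mpr (exists_gen_not_mem hf hgen x)).symm
  rw [h]
  exact isCompact_iUnion fun i => (Proj.isAffineOpen_basicOpen 𝒜 (f i) (hf i) (hdeg i)).isCompact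

end lcm

end Groth.Agent.ProjLcm70

end
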