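import Mathlib.RingTheory.GradedAlgebra.Basic
import Mathlib.RingTheory.Adjoin.Basic
import Mathlib.Algebra.GCDMonoid.Finset
import Mathlib.Algebra.GCDMonoid.Nat
import Mathlib.Algebra.Algebra.Operations

/-!
# Graded algebras with homogeneous generators: the degree `n + lcm` part
-/

set_option autoImplicit false

universe u v

open DirectSum

namespace Groth.Agent.ProjLcm70

variable {R A : Type u} [CommRing R] [CommRing A] [Algebra R A] {𝒜 : ℕ → Submodule R A}
  [GradedAlgebra 𝒜]

/-- Induction on homogeneous elements of an algebra with homogeneous generators. -/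
theorem hom_induction {ι : Type v} (f : ι → A) (deg : ι → ℕ) (hf : ∀ i, f i ∈ 𝒜 (deg i))
    (hgen : Algebra.adjoin R (Set.range f) = ⊤) (P : ℕ → A → Prop)
    (h0 : ∀ m, P m 0) (hadd : ∀ m x y, P m x → P m y → P m (x + y))
    (hsmul : ∀ m (r : R) x, P m x → P m (r • x))
    (hone : P 0 1) (hgenP : ∀ i, P (deg i) (f i))
    (hmul : ∀ i j x y, x ∈ 𝒜 i → y ∈ 𝒜 j → P i x → P j y → P (i + j) (x * y))
    (m : ℕ) (a : A) (ha : a ∈ 𝒜 m) : P m a := by
  classical
  suffices h : ∀ (a : A) (m : ℕ), P m (decompose 𝒜 a m : A) by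
    have := h a m
    rwa [decompose_of_mem_same 𝒜 ha] at this
  intro a
  have hmem : a ∈ Subalgebra.toSubmodule (Algebra.adjoin R (Set.range f)) :=
    hgen.ge (Algebra.mem_top (x := a))
  rw [Algebra.adjoin_eq_span] at hmem
  induction hmem using Submodule.span_induction with
  | mem x hx =>
    obtain ⟨i, hxi, hP⟩ : ∃ i, x ∈ 𝒜 i ∧ P i x := by
      induction hx using Submonoid.closure_induction with
      | mem y hy => obtain ⟨i, rfl⟩ := hy; exact ⟨deg i, hf i, hgenP i⟩
      | one => exact ⟨0, SetLike.GradedOne.one_mem, hone⟩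
      | mul y z _ _ hy hz =>
        obtain ⟨i, hi, hPi⟩ := hy
        obtain ⟨j, hj, hPj⟩ := hz
        exact ⟨i + j, SetLike.mul_mem_graded hi hj, hmul i j y z hi hj hPi hPj⟩
    intro m
    by_cases h : i = m
    · subst h; rwa [decompose_of_mem_same 𝒜 hxi]
    · rw [decompose_of_mem_ne 𝒜 hxi h]; exact h0 m
  | zero => intro m; simpa using h0 m
  | add x y _ _ hx hy =>
    intro m
    simpa [decompose_add] using hadd m _ _ (hx m) (hy m)
  | smul r x _ hx =>
    intro m
    rw [decompose_smul]
    exact hsmul m r _ (hx m)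

variable {s : ℕ} (f : Fin s → A) (deg : Fin s → ℕ)

/-- Monomials in the generators of weighted degree `m`. -/
def monoSet (m : ℕ) : Set A :=
  {a | ∃ e : Fin s → ℕ, ∑ i, e i * deg i = m ∧ a = ∏ i, f i ^ e i}

variable {f deg} (hf : ∀ i, f i ∈ 𝒜 (deg i)) (hgen : Algebra.adjoin R (Set.range f) = ⊤)

include hf in
theorem prod_pow_mem (e : Fin s → ℕ) : ∏ i, f i ^ e i ∈ 𝒜 (∑ i, e i * deg i) :=
  SetLike.prod_mem_graded _ _ _ fun i _ => by simpa using SetLike.pow_mem_graded (e i) (hf i)

include hf hgen in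
theorem le_span_monoSet (m : ℕ) : 𝒜 m ≤ Submodule.span R (monoSet f deg m) := by
  classical
  intro a ha
  refine hom_induction f deg hf hgen (fun m a => a ∈ Submodule.span R (monoSet f deg m))
    (fun m => zero_mem _) (fun m x y => add_mem) (fun m r x => Submodule.smul_mem _ r)
    (Submodule.subset_span ⟨0, by simp, by simp⟩)
    (fun i => Submodule.subset_span ⟨Pi.single i 1, ?_, ?_⟩)
    (fun i j x y hxi hyj hx hy => ?_) m a ha
  · simp [Pi.single_apply]
  · simp [Pi.single_apply, pow_ite, Finset.prod_ite_eq']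
  · clear hxi hyj
    induction hx using Submodule.span_induction with
    | mem x hx =>
      induction hy using Submodule.span_induction with
      | mem y hy =>
        obtain ⟨e, he, rfl⟩ := hx
        obtain ⟨e', he', rfl⟩ := hy
        exact Submodule.subset_span ⟨e + e', by simp [add_mul, Finset.sum_add_distrib, he, he'],
          by simp [pow_add, Finset.prod_mul_distrib]⟩
      | zero => simp
      | add y z _ _ hy hz => rw [mul_add]; exact add_mem hy hz
      | smul r y _ hy => rw [mul_smul_comm]; exact Submodule.smul_mem _ r hy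
    | zero => simp
    | add x z _ _ hx hz => rw [add_mul]; exact add_mem hx hz
    | smul r x _ hx => rw [smul_mul_assoc]; exact Submodule.smul_mem _ r hx

theorem mul_le_graded (i j : ℕ) : 𝒜 i * 𝒜 j ≤ 𝒜 (i + j) :=
  Submodule.mul_le.mpr fun _ hx _ hy => SetLike.mul_mem_graded hx hy

theorem pow_le_graded (i k : ℕ) : 𝒜 i ^ k ≤ 𝒜 (k * i) := by
  induction k with
  | zero =>
    rw [pow_zero, Submodule.one_le, Nat.zero_mul]
    exact SetLike.GradedOne.one_mem
  | succ k ih =>
    rw [pow_succ, Nat.add_one_mul]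
    exact (mul_le_mul' ih le_rfl).trans (mul_le_graded _ _)

include hf hgen in
theorem graded_zero (hdeg : ∀ i, 0 < deg i) : 𝒜 0 = 1 := by
  refine le_antisymm ((le_span_monoSet hf hgen 0).trans (Submodule.span_le.mpr ?_))
    (Submodule.one_le.mpr SetLike.GradedOne.one_mem)
  rintro _ ⟨e, he, rfl⟩
  have h : ∀ i, e i = 0 := fun i => by
    have := (Finset.sum_eq_zero_iff.mp he) i (Finset.mem_univ _)
    exact (mul_eq_zero.mp this).resolve_right (hdeg i).ne'
  simp only [h, pow_zero, Finset.prod_const_one, SetLike.mem_coe]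
  exact Submodule.one_le.mp le_rfl

variable (hdeg : ∀ i, 0 < deg i)

include hdeg in
theorem lcm_pos : 0 < Finset.univ.lcm deg := by
  refine Nat.pos_of_ne_zero fun h => ?_
  obtain ⟨i, -, hi⟩ := Finset.lcm_eq_zero_iff.mp h
  exact (hdeg i).ne' hi

include hf hgen hdeg in
/-- `A_(n+l) = A_n A_l` above the bound. -/
theorem graded_add_lcm (n : ℕ) (hn : (s - 1) * (Finset.univ.lcm deg - 1) ≤ n) :
    𝒜 (n + Finset.univ.lcm deg) = 𝒜 n * 𝒜 (Finset.univ.lcm deg) := by
  classical
  have hl0 : 0 < Finset.univ.lcm deg := lcm_pos hdeg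
  have hdvd : ∀ i, deg i ∣ Finset.univ.lcm deg := fun i => Finset.dvd_lcm (Finset.mem_univ i)
  set l := Finset.univ.lcm deg
  refine le_antisymm ((le_span_monoSet hf hgen _).trans (Submodule.span_le.mpr ?_)) (mul_le_graded _ _)
  rintro _ ⟨e, he, rfl⟩
  obtain ⟨i, hi⟩ : ∃ i, l / deg i ≤ e i := by
    by_contra hc
    push Not at hc
    have h1 : ∀ i, e i * deg i ≤ l - 1 := fun i => by
      have := Nat.mul_le_mul_right (deg i) (Nat.succ_le_of_lt (hc i))
      rw [Nat.div_mul_cancel (hdvd i), Nat.succ_eq_add_one, Nat.add_one_mul] at this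
      have := hdeg i
      omega
    have h2 : ∑ i, e i * deg i ≤ s * (l - 1) :=
      (Finset.sum_le_sum fun i _ => h1 i).trans (by simp)
    rcases s with _ | t
    · simp at he; omega
    · rw [Nat.add_one_sub_one] at hn
      rw [Nat.add_one_mul] at h2
      omega
  set q := l / deg i
  have hq : q * deg i = l := Nat.div_mul_cancel (hdvd i)
  let e' : Fin s → ℕ := fun j => if j = i then e i - q else e j
  have hsplit : ∀ j, e j = e' j + (if j = i then q else 0) := fun j => by
    by_cases h : j = i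
    · subst h; simp [e']; omega
    · simp [e', h]
  have he' : ∑ j, e' j * deg j = n := by
    simp only [hsplit, add_mul, Finset.sum_add_distrib, ite_mul, zero_mul, Finset.sum_ite_eq',
      Finset.mem_univ, if_true, hq] at he
    omega
  have hprod : ∏ j, f j ^ e j = (∏ j, f j ^ e' j) * f i ^ q := by
    simp only [hsplit, pow_add, Finset.prod_mul_distrib, pow_ite, pow_zero, Finset.prod_ite_eq',
      Finset.mem_univ, if_true]
  rw [SetLike.mem_coe, hprod]
  refine Submodule.mul_mem_mul (he' ▸ prod_pow_mem hf e') ?_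
  have := SetLike.pow_mem_graded q (hf i)
  rwa [smul_eq_mul, hq] at this

include hf hgen hdeg in
theorem graded_add_mul_lcm (n : ℕ) (hn : (s - 1) * (Finset.univ.lcm deg - 1) ≤ n) (j : ℕ) :
    𝒜 (n + j * Finset.univ.lcm deg) = 𝒜 n * 𝒜 (Finset.univ.lcm deg) ^ j := by
  induction j with
  | zero => rw [pow_zero, mul_one, Nat.zero_mul, Nat.add_zero]
  | succ j ih =>
    rw [Nat.add_one_mul, ← Nat.add_assoc, graded_add_lcm hf hgen hdeg _ (hn.trans (Nat.le_add_right _ _)),
      ih, pow_succ, mul_assoc]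

include hf hgen hdeg in
theorem graded_mul_eq_pow (a : ℕ) (ha : s - 1 ≤ a) (k : ℕ) :
    𝒜 (k * (a * Finset.univ.lcm deg)) = 𝒜 (a * Finset.univ.lcm deg) ^ k := by
  induction k with
  | zero => rw [pow_zero, Nat.zero_mul]; exact graded_zero hf hgen hdeg
  | succ k ih =>
    rcases k with _ | k
    · rw [pow_one, Nat.one_mul]
    refine le_antisymm ?_ (pow_le_graded _ _)
    have hb : (s - 1) * (Finset.univ.lcm deg - 1) ≤ (k + 1) * (a * Finset.univ.lcm deg) :=
      (Nat.mul_le_mul ha (Nat.sub_le _ 1)).trans (Nat.le_mul_of_pos_left _ (Nat.succ_pos k))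
    rw [Nat.add_one_mul (k + 1), graded_add_mul_lcm hf hgen hdeg _ hb a, pow_succ _ (k + 1), ← ih]
    exact mul_le_mul' le_rfl (pow_le_graded _ _)

end Groth.Agent.ProjLcm70
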