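import Groth.Agent.ProjLcm70.Generated
import Groth.Agent.KoszTwLib.Tensor
import Groth.Agent.ProjTwist.Tensor

/-!
# `O(D) ⊗ O(n) ≅ O(D + n)` when `O(D)` has invertible fractions locally
-/

set_option autoImplicit false
set_option linter.style.haveILetI false

universe u

open CategoryTheory AlgebraicGeometry TopologicalSpace Opposite MonoidalCategory
open scoped TensorProduct

noncomputable section

namespace Groth.Agent.ProjLcm70

open Twist Groth.Agent.ProjTwist Groth.Agent.QCoh Groth.Agent.Props.GenLocus Groth.Agent.Props.ProjFrame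

variable {R A : Type u} [CommRing R] [CommRing A] [Algebra R A] {𝒜 : ℕ → Submodule R A}
  [GradedAlgebra 𝒜] {n D l : ℤ}

/-- The product of sections, typed in the modules. -/
def mul' (h : n + D = l) {V : (Proj 𝒜).Opens} (s : Γ(twist 𝒜 n, V)) (t : Γ(twist 𝒜 D, V)) :
    Γ(twist 𝒜 l, V) :=
  mulSec h (U := op V) s t

theorem mul'_smul_left (h : n + D = l) {V : (Proj 𝒜).Opens} (c : Γ(Proj 𝒜, V))
    (s : Γ(twist 𝒜 n, V)) (t : Γ(twist 𝒜 D, V)) : mul' h (c • s) t = c • mul' h s t := by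
  refine sectN_ext fun x => ?_
  refine (mulSec_coe _ _ _ x).trans ?_
  refine (congrArg (· * _) (smul_coe _ _ x)).trans ?_
  refine Eq.trans ?_ (smul_coe _ _ x).symm
  exact (mul_assoc _ _ _).trans (congrArg _ (mulSec_coe _ _ _ x).symm)

theorem mul'_smul_right (h : n + D = l) {V : (Proj 𝒜).Opens} (c : Γ(Proj 𝒜, V))
    (s : Γ(twist 𝒜 n, V)) (t : Γ(twist 𝒜 D, V)) : mul' h s (c • t) = c • mul' h s t := by
  refine sectN_ext fun x => ?_
  refine (mulSec_coe _ _ _ x).trans ?_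
  refine (congrArg (_ * ·) (smul_coe _ _ x)).trans ?_
  refine Eq.trans ?_ (smul_coe _ _ x).symm
  exact (mul_left_comm _ _ _).trans (congrArg _ (mulSec_coe _ _ _ x).symm)

variable (n D l) in
/-- The product as a bilinear map. -/
def mulBil (h : n + D = l) (V : (Proj 𝒜).Opens) :
    Γ(twist 𝒜 n, V) →ₗ[Γ(Proj 𝒜, V)] Γ(twist 𝒜 D, V) →ₗ[Γ(Proj 𝒜, V)] Γ(twist 𝒜 l, V) :=
  LinearMap.mk₂ Γ(Proj 𝒜, V) (fun t t' => mul' h t t')
    (fun _ _ _ => sectN_ext fun _ => add_mul _ _ _) (mul'_smul_left h)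
    (fun _ _ _ => sectN_ext fun _ => mul_add _ _ _) (mul'_smul_right h)

/-- The product on the presheaf tensor product. -/
def mulPre (h : n + D = l) : Props.GenTensor.pre (twist 𝒜 n) (twist 𝒜 D) ⟶
    (PresheafOfModules.restrictScalars (𝟙 (Proj 𝒜).ringCatSheaf.obj)).obj (twist 𝒜 l).val :=
  PresheafOfModules.homMk
    { app := fun V => AddCommGrpCat.ofHom
        (TensorProduct.lift (mulBil n D l h V.unop)).toAddMonoidHom
      naturality := fun {V W} i => by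
        ext (z : Γ(twist 𝒜 n, V.unop) ⊗[Γ(Proj 𝒜, V.unop)] Γ(twist 𝒜 D, V.unop))
        induction z using TensorProduct.induction_on with
        | zero => exact (map_zero _).trans (map_zero _).symm
        | tmul a b => rfl
        | add a b ha hb => exact (map_add _ a b).trans ((congrArg₂ (· + ·) ha hb).trans (map_add _ a b).symm) }
    (fun V r z => map_smul (TensorProduct.lift (mulBil n D l h V.unop)) (show Γ(Proj 𝒜, V.unop) from r)
      (show Γ(twist 𝒜 n, V.unop) ⊗[Γ(Proj 𝒜, V.unop)] Γ(twist 𝒜 D, V.unop) from z))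

/-- The multiplication morphism. -/
def mulHom (h : n + D = l) : CohB1.tensorMod (twist 𝒜 n) (twist 𝒜 D) ⟶ twist 𝒜 l :=
  ((PresheafOfModules.sheafificationAdjunction (𝟙 (Proj 𝒜).ringCatSheaf.obj)).homEquiv _ _).symm (mulPre h)

theorem mulHom_tmul (h : n + D = l) {V : (Proj 𝒜).Opens} (t : Γ(twist 𝒜 n, V)) (t' : Γ(twist 𝒜 D, V)) :
    (mulHom h).app V (Props.GenTensor.tmul t t') = mul' h t t' := by
  have h0 : ((PresheafOfModules.sheafificationAdjunction (𝟙 (Proj 𝒜).ringCatSheaf.obj)).homEquiv _ _)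
      (mulHom (𝒜 := 𝒜) h) = mulPre h := Equiv.apply_symm_apply _ _
  exact congrArg (fun φ : Props.GenTensor.pre (twist 𝒜 n) (twist 𝒜 D) ⟶
      (PresheafOfModules.restrictScalars (𝟙 (Proj 𝒜).ringCatSheaf.obj)).obj (twist 𝒜 l).val =>
      (φ.app (op V)).hom (show (Props.GenTensor.pre (twist 𝒜 n) (twist 𝒜 D)).obj (op V) from
        (t ⊗ₜ[Γ(Proj 𝒜, V)] t' : Γ(twist 𝒜 n, V) ⊗[Γ(Proj 𝒜, V)] Γ(twist 𝒜 D, V)))) h0

variable (𝒜 D) in
/-- Locally there are mutually inverse sections of `O(D)` and `O(-D)`. -/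
def HasFrames : Prop :=
  ∀ x : Proj 𝒜, ∃ (U : (Proj 𝒜).Opens) (e : Γ(twist 𝒜 D, U)) (e' : Γ(twist 𝒜 (-D), U)), x ∈ U ∧
    ∀ y : U, ((show sectN (𝒜 := 𝒜) D (op U) from e).1 y).1 *
      ((show sectN (𝒜 := 𝒜) (-D) (op U) from e').1 y).1 = 1

section frame

variable {U : (Proj 𝒜).Opens} {e : Γ(twist 𝒜 D, U)} {e' : Γ(twist 𝒜 (-D), U)}
  (he : ∀ y : U, ((show sectN (𝒜 := 𝒜) D (op U) from e).1 y).1 *
      ((show sectN (𝒜 := 𝒜) (-D) (op U) from e').1 y).1 = 1)

include he in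
theorem mul'_bijective (h : n + D = l) {V : (Proj 𝒜).Opens} (hV : V ≤ U) :
    Function.Bijective fun s : Γ(twist 𝒜 n, V) => mul' h s (res _ hV e) := by
  have key : ∀ z : V, ((show sectN (𝒜 := 𝒜) D (op V) from res _ hV e).1 z).1 *
      ((show sectN (𝒜 := 𝒜) (-D) (op V) from res _ hV e').1 z).1 = 1 := fun z => he ⟨z.1, hV z.2⟩
  refine Function.bijective_iff_has_inverse.mpr
    ⟨fun t => mul' (show l + -D = n by omega) t (res _ hV e'), fun s => ?_, fun t => ?_⟩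
  · exact sectN_ext fun z => (mul_assoc _ _ _).trans ((congrArg _ (key z)).trans (mul_one _))
  · refine sectN_ext fun z => (mul_assoc _ _ _).trans ((congrArg _ ?_).trans (mul_one _))
    exact (mul_comm _ _).trans (key z)

include he in
theorem isFrame_of_inverse : LFFrame.IsFrame (twist 𝒜 D) U ![e] := by
  rw [show (![e] : Fin 1 → _) = fun _ => e from funext fun i => by rw [Fin.eq_zero i]; rfl,
    ← isGen_iff_isFrame]
  intro V hV
  constructor
  · intro c d hcd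
    refine Subtype.ext (funext fun z => HomogeneousLocalization.val_injective _ ?_)
    have hx := congrArg (fun s : sectN (𝒜 := 𝒜) D (op V) => (s.1 z).1)
      (show c • res _ hV e = d • res _ hV e from hcd)
    simp only [smul_coe] at hx
    exact (IsUnit.of_mul_eq_one _ (he ⟨z.1, hV z.2⟩)).mul_right_cancel hx
  · intro g
    obtain ⟨c, hc⟩ := exists_O_of_sectN_zero (mulSec (add_neg_cancel D)
      (show sectN (𝒜 := 𝒜) D (op V) from g) (show sectN (𝒜 := 𝒜) (-D) (op V) from res _ hV e'))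
    refine ⟨c, sectN_ext fun z => ?_⟩
    refine (smul_coe c _ z).trans ?_
    rw [hc z]
    refine (mul_assoc ((show sectN (𝒜 := 𝒜) D (op V) from g).1 z).1 _ _).trans ?_
    refine (congrArg _ ?_).trans (mul_one _)
    exact (mul_comm _ _).trans (he ⟨z.1, hV z.2⟩)

end frame

theorem isIso_mulHom (hD : HasFrames 𝒜 D) (h : n + D = l) : IsIso (mulHom (𝒜 := 𝒜) h) := by
  refine LFFrame.isIso_of_locally_bijective _ fun x => ?_
  obtain ⟨U, e, e', hx, he⟩ := hD x
  refine ⟨U, hx, fun V hV => ?_⟩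
  have h1 := KoszTwLib.tmul_bijective (isFrame_of_inverse he) (twist 𝒜 n) hV
  refine (Function.Bijective.of_comp_iff _ h1).mp ?_
  convert mul'_bijective he h hV using 1
  funext s
  exact mulHom_tmul h s _

theorem nonempty_tensor_iso (hD : HasFrames 𝒜 D) (n : ℤ) :
    Nonempty (CohB1.tensorMod (twist 𝒜 D) (twist 𝒜 n) ≅ twist 𝒜 (D + n)) := by
  haveI := isIso_mulHom hD (add_comm n D)
  exact ⟨tensComm _ _ ≪≫ asIso (mulHom (add_comm n D))⟩

/-- `g` as a section of `O(D)` for `D = deg g`. -/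
def fracZ {k : ℕ} {g : A} (hg : g ∈ 𝒜 k) (D : ℤ) (hD : (k : ℤ) = D) (U : (Proj 𝒜).Opens) :
    Γ(twist 𝒜 D, U) :=
  (⟨fun x => ⟨Localization.mk g ⟨1, one_nin x.1⟩,
      Submodule.subset_span ⟨k, 0, ⟨g, hg⟩, ⟨1, SetLike.GradedOne.one_mem⟩, _, by simp [hD], rfl⟩⟩,
    fun x => ⟨U, x.2, 𝟙 _, k, 0, ⟨g, hg⟩, ⟨1, SetLike.GradedOne.one_mem⟩,
      fun y => one_nin y.1, Or.inl (by simp [hD]), fun _ => rfl⟩⟩ : sectN (𝒜 := 𝒜) D (op U))

theorem hasFrames_natCast {k : ℕ} (hcov : ∀ x : ProjectiveSpectrum 𝒜, ∃ g ∈ 𝒜 k, g ∉ x.asHomogeneousIdeal)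
    (D : ℤ) (hD : D = (k : ℤ) ∨ D = -(k : ℤ)) : HasFrames 𝒜 D := by
  intro x
  obtain ⟨g, hg, hgx⟩ := hcov x
  rcases hD with rfl | rfl
  · refine ⟨Proj.basicOpen 𝒜 g, frac hg _, fracInv hg _ le_rfl, hgx, fun y => ?_⟩
    exact (mul_comm _ _).trans (mk_mul_inv y.2)
  · exact ⟨Proj.basicOpen 𝒜 g, fracInv hg _ le_rfl, fracZ hg _ (neg_neg _).symm _, hgx,
      fun y => mk_mul_inv y.2⟩

end Groth.Agent.ProjLcm70

end
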